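import Groth.Agent.Lib.BigSite16.BaseChange
import Groth.Agent.S6184
import Groth.Prelude.Def_BigSite
import Groth.Prelude.Def_EtBase
import Groth.Prelude.Def_EtBCD

/-! Small-to-big base change for direct images, from base change on small étale sites. -/

universe u v' u'

open CategoryTheory CategoryTheory.Limits AlgebraicGeometry Opposite

set_option linter.style.haveILetI false
set_option backward.isDefEq.respectTransparency false
set_option backward.isDefEq.respectTransparency.types false

namespace Groth.Agent.SmallBigBC16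

variable (A : Type u') [Category.{v'} A]
variable {S T V W : Scheme.{u}}

noncomputable abbrev push (f : T ⟶ S) : Sheaf T.smallEtaleTopology A ⥤ Sheaf S.smallEtaleTopology A :=
  (EtCoh.bc f).sheafPushforwardContinuous A S.smallEtaleTopology T.smallEtaleTopology

variable (S) in
noncomputable abbrev res :
    Sheaf (QuotSh.J Scheme.etalePrecoverage S) A ⥤ Sheaf S.smallEtaleTopology A :=
  (EtFppf.a S).sheafPushforwardContinuous A S.smallEtaleTopology (QuotSh.J Scheme.etalePrecoverage S)

abbrev bigPull (g : V ⟶ S) := BigSite.pullBig Scheme.etalePrecoverage g A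

noncomputable abbrev bigPush (f : T ⟶ S) := BigSite.pushBig Scheme.etalePrecoverage f A

/-- projection of a base change, in the big site -/
noncomputable def proj (g : V ⟶ S) (U : S.Etale) :
    (Over.map g).obj ((EtFppf.a V).obj ((EtCoh.bc g).obj U)) ⟶ (EtFppf.a S).obj U :=
  Over.homMk (pullback.fst U.hom g) pullback.condition

@[simp] lemma proj_left (g : V ⟶ S) (U : S.Etale) : (proj g U).left = pullback.fst U.hom g := rfl

/-- restriction maps along a morphism -/
noncomputable def r (g : V ⟶ S) : res A S ⟶ bigPull A g ⋙ res A V ⋙ push A g where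
  app G :=
    { hom :=
        { app := fun U => G.obj.map (proj g U.unop).op
          naturality := fun U U' k => by
            show G.obj.map _ ≫ G.obj.map _ = G.obj.map _ ≫ G.obj.map _
            rw [← Functor.map_comp, ← Functor.map_comp]
            congr 1
            apply Quiver.Hom.unop_inj
            ext : 1
            exact (pullback.lift_fst _ _ _).symm } }
  naturality G G' φ := by
    apply ObjectProperty.hom_ext
    ext U
    exact (φ.hom.naturality _).symm

/-- restriction commutes with direct images -/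
noncomputable def e1 (f : T ⟶ S) : bigPush A f ⋙ res A S ≅ res A T ⋙ push A f :=
  BigSite16.pushCompIso (EtFppf.a S) (Over.pullback f) (EtCoh.bc f) (EtFppf.a T)
    (BigSite16.bcForgetIso f).symm A S.smallEtaleTopology T.smallEtaleTopology
    (QuotSh.J Scheme.etalePrecoverage S) (QuotSh.J Scheme.etalePrecoverage T)

noncomputable def pushComp (f : T ⟶ S) (g : W ⟶ T) : push A g ⋙ push A f ≅ push A (g ≫ f) :=
  Functor.sheafPushforwardContinuousComp' (F := EtCoh.bc f) (G := EtCoh.bc g) (FG := EtCoh.bc (g ≫ f))
    ((MorphismProperty.Over.pullbackComp (P := EtCoh.etaleMP) (Q := ⊤) g f).symm :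
      EtCoh.bc f ⋙ EtCoh.bc g ≅ EtCoh.bc (g ≫ f))
    A S.smallEtaleTopology T.smallEtaleTopology W.smallEtaleTopology

noncomputable def pushCongr {f f' : T ⟶ S} (h : f = f') : push A f ≅ push A f' :=
  Functor.sheafPushforwardContinuousIso (F := EtCoh.bc f) (F' := EtCoh.bc f')
    ((MorphismProperty.Over.pullbackCongr (P := EtCoh.etaleMP) (Q := ⊤) h) : EtCoh.bc f ≅ EtCoh.bc f')
    A S.smallEtaleTopology T.smallEtaleTopology

omit A in
theorem congr_inv_fst {f f' : T ⟶ S} (h : f = f') (U : S.Etale) :
    ((MorphismProperty.Over.pullbackCongr (P := EtCoh.etaleMP) (Q := ⊤) h).inv.app U).left ≫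
      pullback.fst U.hom f = pullback.fst U.hom f' := by
  subst h; simp [MorphismProperty.Over.pullbackCongr]; exact Category.id_comp _

omit A in
theorem congr_inv_snd {f f' : T ⟶ S} (h : f = f') (U : S.Etale) :
    ((MorphismProperty.Over.pullbackCongr (P := EtCoh.etaleMP) (Q := ⊤) h).inv.app U).left ≫
      pullback.snd U.hom f = pullback.snd U.hom f' := by
  subst h; simp [MorphismProperty.Over.pullbackCongr]; exact Category.id_comp _

variable [∀ (X Y : Scheme.{u}) (g : Y ⟶ X), (push A g).IsRightAdjoint]
  [∀ X : Scheme.{u}, (res A X).IsRightAdjoint]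

noncomputable abbrev pull (f : T ⟶ S) : Sheaf S.smallEtaleTopology A ⥤ Sheaf T.smallEtaleTopology A :=
  (EtCoh.bc f).sheafPullback A S.smallEtaleTopology T.smallEtaleTopology

noncomputable abbrev adj (f : T ⟶ S) : pull A f ⊣ push A f :=
  (EtCoh.bc f).sheafAdjunctionContinuous A S.smallEtaleTopology T.smallEtaleTopology

variable (S) in
noncomputable abbrev pi : Sheaf S.smallEtaleTopology A ⥤ Sheaf (QuotSh.J Scheme.etalePrecoverage S) A :=
  (EtFppf.a S).sheafPullback A S.smallEtaleTopology (QuotSh.J Scheme.etalePrecoverage S)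

variable (S) in
noncomputable abbrev piAdj : pi A S ⊣ res A S :=
  (EtFppf.a S).sheafAdjunctionContinuous A S.smallEtaleTopology (QuotSh.J Scheme.etalePrecoverage S)

/-- the comparison `g⁻¹ (G|_S) ⟶ G|_V` -/
noncomputable def c (g : V ⟶ S) (G : Sheaf (QuotSh.J Scheme.etalePrecoverage S) A) :
    (pull A g).obj ((res A S).obj G) ⟶ (res A V).obj ((bigPull A g).obj G) :=
  ((adj A g).homEquiv _ _).symm ((r A g).app G)

omit [∀ (X Y : Scheme.{u}) (g : Y ⟶ X), (push A g).IsRightAdjoint]
  [∀ X : Scheme.{u}, (res A X).IsRightAdjoint] in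
theorem unit_e1 (g : V ⟶ S) (G : Sheaf (QuotSh.J Scheme.etalePrecoverage S) A) :
    (res A S).map ((BigSite.bigAdj Scheme.etalePrecoverage g A).unit.app G) ≫
      (e1 A g).hom.app ((bigPull A g).obj G) = (r A g).app G := by
  apply ObjectProperty.hom_ext
  ext U
  simp [e1, r, BigSite16.pushCompIso, BigSite16.bcForgetIso, ← Functor.map_comp]
  erw [Category.comp_id, ← G.obj.map_comp, ← op_comp]
  congr 2

variable [∀ X : Scheme.{u}, IsIso (piAdj A X).unit]

/-- restriction of an inverse image is an inverse image -/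
theorem isIso_c_pi (g : V ⟶ S) (K : Sheaf S.smallEtaleTopology A) : IsIso (c A g ((pi A S).obj K)) := by
  let L₁ := (piAdj A S).comp (BigSite.bigAdj Scheme.etalePrecoverage g A)
  let L₂ := ((adj A g).comp (piAdj A V)).ofNatIsoRight (e1 A g).symm
  let e2 := Adjunction.leftAdjointUniq L₁ L₂
  have h := Adjunction.unit_leftAdjointUniq_hom_app L₁ L₂ K
  have h' : ((piAdj A S).unit.app K ≫ (r A g).app ((pi A S).obj K)) ≫ (push A g).map ((res A V).map (e2.hom.app K)) =
      (adj A g).unit.app K ≫ (push A g).map ((piAdj A V).unit.app ((pull A g).obj K)) := by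
    rw [← unit_e1]
    have hn := (e1 A g).hom.naturality (e2.hom.app K)
    dsimp at hn
    simp only [L₁, L₂, Adjunction.comp_unit_app, Adjunction.ofNatIsoRight, Functor.comp_map] at h
    simp only [Category.assoc]
    erw [← hn]
    rw [← Category.assoc, ← Category.assoc]
    have h2 := congrArg (fun t => t ≫ (e1 A g).hom.app _) h
    simp at h2
    simp only [Category.assoc]
    exact h2
  have ht := congrArg ((adj A g).homEquiv _ _).symm h'
  rw [Adjunction.homEquiv_naturality_right_symm, Adjunction.homEquiv_naturality_right_symm,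
    Adjunction.homEquiv_naturality_left_symm, ← Adjunction.homEquiv_id (adj A g)] at ht
  erw [Equiv.symm_apply_apply, Category.id_comp] at ht
  haveI : IsIso ((pull A g).map ((piAdj A S).unit.app K) ≫ c A g ((pi A S).obj K)) := by
    haveI : IsIso (((pull A g).map ((piAdj A S).unit.app K) ≫ c A g ((pi A S).obj K)) ≫ (res A V).map (e2.hom.app K)) := by
      rw [c]; erw [ht]; infer_instance
    exact IsIso.of_isIso_comp_right _ ((res A V).map (e2.hom.app K))
  exact IsIso.of_isIso_comp_left ((pull A g).map ((piAdj A S).unit.app K)) _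

theorem c_naturality (g : V ⟶ S) {G G' : Sheaf (QuotSh.J Scheme.etalePrecoverage S) A} (φ : G ⟶ G') :
    (pull A g).map ((res A S).map φ) ≫ c A g G' = c A g G ≫ (res A V).map ((bigPull A g).map φ) := by
  unfold c
  rw [← Adjunction.homEquiv_naturality_left_symm, ← Adjunction.homEquiv_naturality_right_symm]
  exact congrArg _ ((r A g).naturality φ)

omit [∀ X : Scheme.{u}, IsIso (piAdj A X).unit] in
/-- the degree zero base change map, transposed -/
noncomputable def bcT {X' S' : Scheme.{u}} {f : T ⟶ S} {g : S' ⟶ S} {f' : X' ⟶ S'} {g' : X' ⟶ T}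
    (w : g' ≫ f = f' ≫ g) (F : Sheaf T.smallEtaleTopology A) :
    (push A f).obj F ⟶ (push A g).obj ((push A f').obj ((pull A g').obj F)) :=
  (push A f).map ((adj A g').unit.app F) ≫ (pushComp A f g').hom.app _ ≫
    (pushCongr A w).hom.app _ ≫ (pushComp A g f').inv.app _

omit [∀ (X Y : Scheme.{u}) (g : Y ⟶ X), (push A g).IsRightAdjoint]
  [∀ X : Scheme.{u}, (res A X).IsRightAdjoint] [∀ X : Scheme.{u}, IsIso (piAdj A X).unit] in
theorem r_square {X' S' : Scheme.{u}} {f : T ⟶ S} {g : S' ⟶ S} {f' : X' ⟶ S'} {g' : X' ⟶ T}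
    (sq : IsPullback g' f' f g) (H : Sheaf (QuotSh.J Scheme.etalePrecoverage T) A) :
    (push A f).map ((r A g').app H) ≫ (pushComp A f g').hom.app _ ≫
      (pushCongr A sq.w).hom.app _ ≫ (pushComp A g f').inv.app _ =
    (e1 A f).inv.app H ≫ (r A g).app ((bigPush A f).obj H) ≫
      (push A g).map ((res A S').map ((BigSite16.pullPushIso sq Scheme.etalePrecoverage A).hom.app H) ≫
        (e1 A f').hom.app ((bigPull A g').obj H)) := by
  apply ObjectProperty.hom_ext
  apply NatTrans.ext
  funext U
  simp [e1, r, pushComp, pushCongr, BigSite16.pushCompIso, BigSite16.pullPushIso, BigSite16.bcForgetIso,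
    BigSite16.overSquareIso, ← Functor.map_comp, ← op_comp]
  erw [Category.id_comp, Category.comp_id, Category.id_comp, ← H.obj.map_comp, ← H.obj.map_comp,
    ← H.obj.map_comp]
  congr 1
  apply Quiver.Hom.unop_inj
  ext : 1
  simp [proj, EtCoh.bc]
  apply pullback.hom_ext
  · simp only [Category.assoc, Category.id_comp]
    erw [pullback.lift_fst, IsPullback.isoPullback_hom_fst_assoc, pullbackLeftPullbackSndIso_inv_fst, congr_inv_fst,
      pullbackLeftPullbackSndIso_hom_fst, Category.id_comp]
    rfl
  · simp only [Category.assoc, Category.id_comp]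
    erw [pullback.lift_snd, IsPullback.isoPullback_hom_snd]
    erw [pullbackLeftPullbackSndIso_inv_fst_snd]
    rw [← Category.assoc (Over.Hom.left _)]
    erw [congr_inv_snd]
    rw [← Category.assoc]
    erw [pullbackLeftPullbackSndIso_hom_snd]
    erw [Category.id_comp]
    rfl

theorem isIso_c_push {X' S' : Scheme.{u}} {f : T ⟶ S} {g : S' ⟶ S} {f' : X' ⟶ S'} {g' : X' ⟶ T}
    (sq : IsPullback g' f' f g) (F : Sheaf T.smallEtaleTopology A)
    (hbc : IsIso (((adj A g).homEquiv _ _).symm (bcT A sq.w F))) :
    IsIso (c A g ((bigPush A f).obj ((pi A T).obj F))) := by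
  let H := (pi A T).obj F
  haveI := isIso_c_pi A g' F
  let γ : (pull A g').obj F ⟶ (res A X').obj ((bigPull A g').obj H) :=
    (pull A g').map ((piAdj A T).unit.app F) ≫ c A g' H
  haveI : IsIso γ := inferInstanceAs (IsIso (_ ≫ _))
  let a : (push A f).obj F ⟶ (res A S).obj ((bigPush A f).obj H) :=
    (push A f).map ((piAdj A T).unit.app F) ≫ (e1 A f).inv.app H
  let θ := (res A S').map ((BigSite16.pullPushIso sq Scheme.etalePrecoverage A).hom.app H) ≫
        (e1 A f').hom.app ((bigPull A g').obj H)
  have h1 : (piAdj A T).unit.app F ≫ (r A g').app H = (adj A g').unit.app F ≫ (push A g').map γ := by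
    refine Eq.trans ?_ ((adj A g').homEquiv_unit _ _ γ)
    simp only [γ, c, Adjunction.homEquiv_naturality_left]
    erw [Equiv.apply_symm_apply]
  have h2 : (a ≫ (r A g).app ((bigPush A f).obj H)) ≫ (push A g).map θ =
      bcT A sq.w F ≫ (push A g).map ((push A f').map γ) := by
    simp only [a, θ, Category.assoc]
    rw [← r_square A sq H, ← Category.assoc, ← Functor.map_comp, h1, Functor.map_comp]
    simp only [bcT, Category.assoc]
    congr 1
    have n1 := (pushComp A f g').hom.naturality γ
    have n2 := (pushCongr A sq.w).hom.naturality γ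
    have n3 := (pushComp A g f').inv.naturality γ
    dsimp at n1 n2 n3
    rw [reassoc_of% n1, reassoc_of% n2, n3]
  have h3 := congrArg ((adj A g).homEquiv _ _).symm h2
  rw [Adjunction.homEquiv_naturality_right_symm, Adjunction.homEquiv_naturality_right_symm,
    Adjunction.homEquiv_naturality_left_symm] at h3
  haveI := hbc
  haveI : IsIso a := inferInstanceAs (IsIso (_ ≫ _))
  haveI : IsIso θ := inferInstanceAs (IsIso (_ ≫ _))
  haveI : IsIso ((pull A g).map a ≫ c A g ((bigPush A f).obj H)) := by
    haveI : IsIso (((pull A g).map a ≫ c A g ((bigPush A f).obj H)) ≫ θ) := by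
      show IsIso (((pull A g).map a ≫ ((adj A g).homEquiv _ _).symm ((r A g).app _)) ≫ θ)
      rw [h3]; infer_instance
    exact IsIso.of_isIso_comp_right _ θ
  exact IsIso.of_isIso_comp_left ((pull A g).map a) _

/-- the counit is an isomorphism on sheaves compatible with all restrictions -/
theorem isIso_counit (G : Sheaf (QuotSh.J Scheme.etalePrecoverage S) A)
    (hG : ∀ (V : Scheme.{u}) (g : V ⟶ S), IsIso (c A g G)) : IsIso ((piAdj A S).counit.app G) := by
  let ε := (piAdj A S).counit.app G
  haveI : IsIso ((res A S).map ε) := by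
    haveI : IsIso ((piAdj A S).unit.app ((res A S).obj G) ≫ (res A S).map ε) := by
      rw [(piAdj A S).right_triangle_components]; exact IsIso.id _
    exact IsIso.of_isIso_comp_left ((piAdj A S).unit.app ((res A S).obj G)) _
  have key : ∀ (V : Scheme.{u}) (g : V ⟶ S), IsIso ((res A V).map ((bigPull A g).map ε)) := fun V g => by
    haveI := hG V g
    haveI := isIso_c_pi A g ((res A S).obj G)
    haveI : IsIso (c A g ((pi A S).obj ((res A S).obj G)) ≫ (res A V).map ((bigPull A g).map ε)) := by
      rw [← c_naturality]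
      haveI : IsIso (c A g ((𝟭 _).obj G)) := hG V g
      exact IsIso.comp_isIso
    exact IsIso.of_isIso_comp_left (c A g ((pi A S).obj ((res A S).obj G))) _
  haveI : ∀ U, IsIso (ε.hom.app U) := fun U => by
    obtain ⟨⟨U, ⟨⟨⟩⟩, g⟩⟩ := U
    haveI := key U g
    let U₀ : U.Etale := MorphismProperty.Over.mk ⊤ (𝟙 U) (inferInstanceAs (Etale (𝟙 U)))
    haveI : IsIso (((sheafToPresheaf _ A).map ((res A U).map ((bigPull A g).map ε))).app (op U₀)) := inferInstance
    let e : Over.mk g ≅ (Over.map g).obj ((EtFppf.a U).obj U₀) :=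
      Over.isoMk (Iso.refl _) (Category.id_comp g).symm
    exact (NatTrans.isIso_app_iff_of_iso ε.hom e.op).1 this
  haveI := NatIso.isIso_of_isIso_app ε.hom
  haveI : IsIso ((sheafToPresheaf _ A).map ε) := inferInstanceAs (IsIso ε.hom)
  exact isIso_of_fully_faithful (sheafToPresheaf _ A) ε

/-- the comparison of direct images -/
theorem nonempty_iso (f : T ⟶ S)
    (hbc : ∀ (V : Scheme.{u}) (g : V ⟶ S) (F : Sheaf T.smallEtaleTopology A),
      IsIso (((adj A g).homEquiv _ _).symm (bcT A (pullback.condition (f := f) (g := g)) F))) :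
    Nonempty (push A f ⋙ pi A S ≅ pi A T ⋙ bigPush A f) := by
  let t := Functor.whiskerLeft (pi A T ⋙ bigPush A f) (piAdj A S).counit
  haveI : ∀ F, IsIso (t.app F) := fun F =>
    isIso_counit A _ fun V g => isIso_c_push A (IsPullback.of_hasPullback f g) F (hbc V g F)
  haveI := NatIso.isIso_of_isIso_app t
  refine ⟨NatIso.ofComponents (fun F => (pi A S).mapIso ((push A f).mapIso (asIso ((piAdj A T).unit.app F)) ≪≫
      (e1 A f).symm.app _) ≪≫ asIso (t.app F)) fun {F F'} φ => ?_⟩
  have h1 := (piAdj A T).unit.naturality φ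
  have h2 := (e1 A f).inv.naturality ((pi A T).map φ)
  have h3 := t.naturality φ
  dsimp [t] at h1 h2 h3 ⊢
  simp only [← Functor.map_comp_assoc, Category.assoc]
  simp only [Functor.map_comp, Category.assoc]
  erw [← h3]
  simp only [← Functor.map_comp_assoc, Category.assoc]
  congr 1
  congr 1
  rw [← h2, ← Category.assoc, ← Functor.map_comp, ← h1]

end Groth.Agent.SmallBigBC16
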