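import Groth.Agent.Lib.SmallBigBC16.Basic
import Groth.Agent.Lib.EtBCQ24.Chain
import Groth.Agent.Lib.EtStalk.Push
import Groth.Agent.S6184

/-! Small-to-big base change for higher direct images along proper morphisms. -/

universe u

open CategoryTheory CategoryTheory.Limits AlgebraicGeometry Opposite HomologicalComplex

set_option autoImplicit false
set_option linter.style.haveILetI false
set_option linter.unusedSectionVars false
set_option backward.isDefEq.respectTransparency false
set_option backward.isDefEq.respectTransparency.types false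

namespace Groth.Agent.SmallBigBC16

section Generic

variable {A B : Type*} [Category A] [Category B] [Abelian A] [Abelian B] {Φ Ψ : A ⥤ B} [Φ.Additive] [Ψ.Additive]
  [Φ.PreservesHomology] [Ψ.PreservesHomology]

/-- A transformation of exact functors which is invertible on the homology of a complex is invertible at it. -/
theorem isIso_app_homology (N : Φ ⟶ Ψ) {ι : Type*} {c : ComplexShape ι} (C : HomologicalComplex A c) (q : ι)
    (h : IsIso (homologyMap ((NatTrans.mapHomologicalComplex N c).app C) q)) : IsIso (N.app (C.homology q)) := by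
  show IsIso (N.app (C.sc q).homology)
  rw [NatTrans.app_homology]
  haveI : IsIso (ShortComplex.homologyMap ((C.sc q).mapNatTrans N)) := h
  infer_instance

end Generic

universe v

variable {S T : Scheme.{u}}

instance isIso_piAdj_unit (X : Scheme.{u}) : IsIso (piAdj.{u} AddCommGrpCat.{u + 1} X).unit := by
  haveI := fun G => (Groth.Agent.S6184.result X).2 G
  exact NatIso.isIso_of_isIso_app _

/-- `c` as a natural transformation -/
noncomputable def cN {V : Scheme.{u}} (g : V ⟶ S) :
    res.{u} AddCommGrpCat.{u + 1} S ⋙ pull.{u} AddCommGrpCat.{u + 1} g ⟶ bigPull.{u} AddCommGrpCat.{u + 1} g ⋙ res.{u} AddCommGrpCat.{u + 1} V where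
  app G := c.{u} AddCommGrpCat.{u + 1} g G
  naturality _ _ φ := c_naturality.{u} AddCommGrpCat.{u + 1} g φ

variable (f : T ⟶ S)

set_option maxHeartbeats 1600000 in
/-- the comparison is invertible on the cohomology sheaves of the direct image -/
theorem isIso_c_homology {F : EtCoh.Ab T}
    (K : InjectiveResolution ((pi.{u} AddCommGrpCat.{u + 1} T).obj F)) {V : Scheme.{u}} (g : V ⟶ S) (q : ℕ)
    (hBC : ∀ [PreservesFiniteLimits (EtCoh.pull (pullback.fst f g))],
      IsIso (EtBC.bcQ f g (pullback.snd f g) (pullback.fst f g) pullback.condition q F)) :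
    IsIso (c.{u} AddCommGrpCat.{u + 1} g ((((bigPush.{u} AddCommGrpCat.{u + 1} f).mapHomologicalComplex _).obj K.cocomplex).homology q)) := by
  let g' := pullback.fst f g
  let f' := pullback.snd f g
  have sq : IsPullback g' f' f g := IsPullback.of_hasPullback f g
  haveI : PreservesFiniteLimits (pull.{u} AddCommGrpCat.{u + 1} g) := EtStalk.preservesFiniteLimits_pull g
  haveI : PreservesFiniteLimits (pull.{u} AddCommGrpCat.{u + 1} g') := EtStalk.preservesFiniteLimits_pull g'
  haveI : PreservesFiniteLimits (EtCoh.pull g') := EtStalk.preservesFiniteLimits_pull g'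
  haveI : PreservesFiniteColimits (pull.{u} AddCommGrpCat.{u + 1} g) := by
    haveI : PreservesColimitsOfSize.{0, 0} (pull.{u} AddCommGrpCat.{u + 1} g) := (adj.{u} AddCommGrpCat.{u + 1} g).leftAdjoint_preservesColimits
    infer_instance
  haveI : PreservesFiniteColimits (pull.{u} AddCommGrpCat.{u + 1} g') := by
    haveI : PreservesColimitsOfSize.{0, 0} (pull.{u} AddCommGrpCat.{u + 1} g') := (adj.{u} AddCommGrpCat.{u + 1} g').leftAdjoint_preservesColimits
    infer_instance
  haveI : PreservesFiniteLimits (res.{u} AddCommGrpCat.{u + 1} T) := BigSite16.preservesFiniteLimits_resEt Scheme.etalePrecoverage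
  haveI : PreservesFiniteColimits (res.{u} AddCommGrpCat.{u + 1} T) := BigSite16.preservesFiniteColimits_resEt
  haveI : PreservesFiniteLimits (res.{u} AddCommGrpCat.{u + 1} V) := BigSite16.preservesFiniteLimits_resEt Scheme.etalePrecoverage
  haveI : PreservesFiniteColimits (res.{u} AddCommGrpCat.{u + 1} V) := BigSite16.preservesFiniteColimits_resEt
  haveI : PreservesFiniteLimits (res.{u} AddCommGrpCat.{u + 1} S) := BigSite16.preservesFiniteLimits_resEt Scheme.etalePrecoverage
  haveI : PreservesFiniteColimits (res.{u} AddCommGrpCat.{u + 1} S) := BigSite16.preservesFiniteColimits_resEt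
  haveI : PreservesFiniteLimits (res.{u} AddCommGrpCat.{u + 1} (pullback f g)) := BigSite16.preservesFiniteLimits_resEt Scheme.etalePrecoverage
  haveI : PreservesFiniteColimits (res.{u} AddCommGrpCat.{u + 1} (pullback f g)) := BigSite16.preservesFiniteColimits_resEt
  haveI : PreservesFiniteLimits (bigPull.{u} AddCommGrpCat.{u + 1} g) := BigSite16.preservesFiniteLimits_pullBig g _
  haveI : PreservesFiniteColimits (bigPull.{u} AddCommGrpCat.{u + 1} g) := BigSite16.preservesFiniteColimits_pullBig g _
  haveI : PreservesFiniteLimits (bigPull.{u} AddCommGrpCat.{u + 1} g') := BigSite16.preservesFiniteLimits_pullBig g' _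
  haveI : PreservesFiniteColimits (bigPull.{u} AddCommGrpCat.{u + 1} g') := BigSite16.preservesFiniteColimits_pullBig g' _
  -- the resolution of `F`
  let ι₁ : (CochainComplex.single₀ _).obj F ⟶ ((res.{u} AddCommGrpCat.{u + 1} T).mapHomologicalComplex _).obj K.cocomplex :=
    (CochainComplex.single₀ _).map ((piAdj.{u} AddCommGrpCat.{u + 1} T).unit.app F) ≫
      (singleMapHomologicalComplex (res.{u} AddCommGrpCat.{u + 1} T) (ComplexShape.up ℕ) 0).inv.app _ ≫
        ((res.{u} AddCommGrpCat.{u + 1} T).mapHomologicalComplex _).map K.ι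
  haveI : QuasiIso ι₁ := inferInstance
  let I : InjectiveResolution F :=
    { cocomplex := ((res.{u} AddCommGrpCat.{u + 1} T).mapHomologicalComplex _).obj K.cocomplex
      injective := fun n => by
        haveI := K.injective n
        exact BigSite16.injective_resEt Scheme.etalePrecoverage (K.cocomplex.X n)
      ι := ι₁
      quasiIso := inferInstance }
  -- the resolution of the inverse image of `F`
  let Ψ := bigPull.{u} AddCommGrpCat.{u + 1} g' ⋙ res.{u} AddCommGrpCat.{u + 1} (pullback f g)
  haveI := isIso_c_pi.{u} AddCommGrpCat.{u + 1} g' F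
  let γ : (pull.{u} AddCommGrpCat.{u + 1} g').obj F ⟶ Ψ.obj ((pi.{u} AddCommGrpCat.{u + 1} T).obj F) :=
    (pull.{u} AddCommGrpCat.{u + 1} g').map ((piAdj.{u} AddCommGrpCat.{u + 1} T).unit.app F) ≫ c.{u} AddCommGrpCat.{u + 1} g' ((pi.{u} AddCommGrpCat.{u + 1} T).obj F)
  haveI : IsIso γ := inferInstanceAs (IsIso (_ ≫ _))
  let ι₂ : (CochainComplex.single₀ _).obj ((pull.{u} AddCommGrpCat.{u + 1} g').obj F) ⟶ (Ψ.mapHomologicalComplex _).obj K.cocomplex :=
    (CochainComplex.single₀ _).map γ ≫ (singleMapHomologicalComplex Ψ (ComplexShape.up ℕ) 0).inv.app _ ≫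
      (Ψ.mapHomologicalComplex _).map K.ι
  haveI : QuasiIso ι₂ := inferInstance
  let J : InjectiveResolution ((pull.{u} AddCommGrpCat.{u + 1} g').obj F) :=
    { cocomplex := (Ψ.mapHomologicalComplex _).obj K.cocomplex
      injective := fun n => by
        haveI := K.injective n
        haveI := BigSite16.injective_pullBig g' Scheme.etalePrecoverage (K.cocomplex.X n)
        exact BigSite16.injective_resEt Scheme.etalePrecoverage
          ((BigSite.pullBig Scheme.etalePrecoverage g' AddCommGrpCat.{u + 1}).obj (K.cocomplex.X n))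
      ι := ι₂
      quasiIso := inferInstance }
  let χ : ((EtCoh.pull g').mapHomologicalComplex _).obj I.cocomplex ⟶ J.cocomplex :=
    (NatTrans.mapHomologicalComplex (cN g') (ComplexShape.up ℕ)).app K.cocomplex
  have hχ : (EtCoh.pull g').map (I.ι.f 0) ≫ χ.f 0 = J.ι.f 0 := by
    simp [I, J, ι₁, ι₂, χ, γ]
    congr 1
    exact (cN g').naturality (K.ι.f 0)
  have hψ := (EtBCQ24.isIso_bcQ_iff f g f' g' sq.w F I J χ hχ q).1 hBC
  -- the comparison of complexes
  let θN : bigPush.{u} AddCommGrpCat.{u + 1} f ⋙ bigPull.{u} AddCommGrpCat.{u + 1} g ⋙ res.{u} AddCommGrpCat.{u + 1} V ⟶ Ψ ⋙ push.{u} AddCommGrpCat.{u + 1} f' :=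
    { app := fun H => (res.{u} AddCommGrpCat.{u + 1} V).map ((BigSite16.pullPushIso sq Scheme.etalePrecoverage AddCommGrpCat.{u + 1}).hom.app H) ≫
        (e1.{u} AddCommGrpCat.{u + 1} f').hom.app ((bigPull.{u} AddCommGrpCat.{u + 1} g').obj H)
      naturality := fun H H' φ => by
        have h1 := (BigSite16.pullPushIso sq Scheme.etalePrecoverage AddCommGrpCat.{u + 1}).hom.naturality φ
        have h2 := (e1.{u} AddCommGrpCat.{u + 1} f').hom.naturality ((bigPull.{u} AddCommGrpCat.{u + 1} g').map φ)
        dsimp [Ψ] at h1 h2 ⊢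
        rw [← Category.assoc, ← Functor.map_comp, h1, Functor.map_comp, Category.assoc, h2, Category.assoc] }
  haveI : ∀ H, IsIso (θN.app H) := fun H => inferInstanceAs (IsIso (_ ≫ _))
  haveI : IsIso θN := NatIso.isIso_of_isIso_app _
  let C := ((bigPush.{u} AddCommGrpCat.{u + 1} f).mapHomologicalComplex (ComplexShape.up ℕ)).obj K.cocomplex
  let M₁ := ((pull.{u} AddCommGrpCat.{u + 1} g).mapHomologicalComplex _).map
    ((NatTrans.mapHomologicalComplex (e1.{u} AddCommGrpCat.{u + 1} f).inv (ComplexShape.up ℕ)).app K.cocomplex)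
  let M₂ := (NatTrans.mapHomologicalComplex (cN g) (ComplexShape.up ℕ)).app C
  let M₃ := (NatTrans.mapHomologicalComplex θN (ComplexShape.up ℕ)).app K.cocomplex
  haveI : IsIso ((NatTrans.mapHomologicalComplex (e1.{u} AddCommGrpCat.{u + 1} f).inv (ComplexShape.up ℕ)).app K.cocomplex) :=
    ((NatIso.mapHomologicalComplex (e1.{u} AddCommGrpCat.{u + 1} f).symm (ComplexShape.up ℕ)).app K.cocomplex).isIso_hom
  haveI : IsIso M₁ := Functor.map_isIso _ _
  haveI : IsIso M₃ := by
    haveI : IsIso (NatTrans.mapHomologicalComplex θN (ComplexShape.up ℕ)) :=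
      (NatIso.mapHomologicalComplex (asIso θN) (ComplexShape.up ℕ)).isIso_hom
    exact inferInstanceAs (IsIso ((NatTrans.mapHomologicalComplex θN (ComplexShape.up ℕ)).app K.cocomplex))
  have key : M₁ ≫ M₂ ≫ M₃ = EtBCQ24.ψ f g f' g' sq.w I.cocomplex J.cocomplex χ := by
    refine HomologicalComplex.hom_ext _ _ fun n => ?_
    let H := K.cocomplex.X n
    show (pull.{u} AddCommGrpCat.{u + 1} g).map ((e1.{u} AddCommGrpCat.{u + 1} f).inv.app H) ≫ c.{u} AddCommGrpCat.{u + 1} g ((bigPush.{u} AddCommGrpCat.{u + 1} f).obj H) ≫ θN.app H =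
      EtCoh.baseChange0 f g f' g' sq.w ((res.{u} AddCommGrpCat.{u + 1} T).obj H) ≫ (push.{u} AddCommGrpCat.{u + 1} f').map (c.{u} AddCommGrpCat.{u + 1} g' H)
    have h1 : (r.{u} AddCommGrpCat.{u + 1} g').app H = (adj.{u} AddCommGrpCat.{u + 1} g').unit.app ((res.{u} AddCommGrpCat.{u + 1} T).obj H) ≫ (push.{u} AddCommGrpCat.{u + 1} g').map (c.{u} AddCommGrpCat.{u + 1} g' H) := by
      refine Eq.trans ?_ ((adj.{u} AddCommGrpCat.{u + 1} g').homEquiv_unit _ _ (c.{u} AddCommGrpCat.{u + 1} g' H))
      simp only [c]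
      erw [Equiv.apply_symm_apply]
    have h2 : ((e1.{u} AddCommGrpCat.{u + 1} f).inv.app H ≫ (r.{u} AddCommGrpCat.{u + 1} g).app ((bigPush.{u} AddCommGrpCat.{u + 1} f).obj H)) ≫ (push.{u} AddCommGrpCat.{u + 1} g).map (θN.app H) =
        bcT.{u} AddCommGrpCat.{u + 1} sq.w ((res.{u} AddCommGrpCat.{u + 1} T).obj H) ≫ (push.{u} AddCommGrpCat.{u + 1} g).map ((push.{u} AddCommGrpCat.{u + 1} f').map (c.{u} AddCommGrpCat.{u + 1} g' H)) := by
      simp only [θN, Category.assoc]
      rw [← r_square.{u} AddCommGrpCat.{u + 1} sq H, h1, Functor.map_comp]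
      simp only [bcT, Category.assoc]
      congr 1
      have n1 := (pushComp.{u} AddCommGrpCat.{u + 1} f g').hom.naturality (c.{u} AddCommGrpCat.{u + 1} g' H)
      have n2 := (pushCongr.{u} AddCommGrpCat.{u + 1} sq.w).hom.naturality (c.{u} AddCommGrpCat.{u + 1} g' H)
      have n3 := (pushComp.{u} AddCommGrpCat.{u + 1} g f').inv.naturality (c.{u} AddCommGrpCat.{u + 1} g' H)
      dsimp at n1 n2 n3
      rw [reassoc_of% n1, reassoc_of% n2, n3]
    have h3 := congrArg ((adj.{u} AddCommGrpCat.{u + 1} g).homEquiv _ _).symm h2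
    rw [Adjunction.homEquiv_naturality_right_symm, Adjunction.homEquiv_naturality_right_symm,
      Adjunction.homEquiv_naturality_left_symm, Category.assoc] at h3
    exact h3
  refine isIso_app_homology (cN g) C q ?_
  show IsIso (homologyMap M₂ q)
  rw [← key, homologyMap_comp, homologyMap_comp, isIso_comp_left_iff, isIso_comp_right_iff] at hψ
  exact hψ

set_option maxHeartbeats 800000 in
/-- small-to-big base change for higher direct images -/
theorem nonempty_derived_iso (F : EtCoh.Ab T) (q : ℕ)
    (hBC : ∀ (V : Scheme.{u}) (g : V ⟶ S) [PreservesFiniteLimits (EtCoh.pull (pullback.fst f g))],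
      IsIso (EtBC.bcQ f g (pullback.snd f g) (pullback.fst f g) pullback.condition q F)) :
    Nonempty ((BigSite.piEtPull Scheme.etalePrecoverage S).obj ((EtCoh.Rpush f q).obj F) ≅
      (BigSite.RpushBig Scheme.etalePrecoverage f q).obj ((BigSite.piEtPull Scheme.etalePrecoverage T).obj F)) := by
  haveI : PreservesFiniteLimits (res.{u} AddCommGrpCat.{u + 1} T) := BigSite16.preservesFiniteLimits_resEt Scheme.etalePrecoverage
  haveI : PreservesFiniteColimits (res.{u} AddCommGrpCat.{u + 1} T) := BigSite16.preservesFiniteColimits_resEt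
  haveI : PreservesFiniteLimits (res.{u} AddCommGrpCat.{u + 1} S) := BigSite16.preservesFiniteLimits_resEt Scheme.etalePrecoverage
  haveI : PreservesFiniteColimits (res.{u} AddCommGrpCat.{u + 1} S) := BigSite16.preservesFiniteColimits_resEt
  let K := InjectiveResolution.of ((pi.{u} AddCommGrpCat.{u + 1} T).obj F)
  let C := ((bigPush.{u} AddCommGrpCat.{u + 1} f).mapHomologicalComplex (ComplexShape.up ℕ)).obj K.cocomplex
  haveI : IsIso ((piAdj.{u} AddCommGrpCat.{u + 1} S).counit.app (C.homology q)) :=
    isIso_counit.{u} AddCommGrpCat.{u + 1} _ fun V g => isIso_c_homology f K g q (hBC V g)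
  let ι₁ : (CochainComplex.single₀ _).obj F ⟶ ((res.{u} AddCommGrpCat.{u + 1} T).mapHomologicalComplex _).obj K.cocomplex :=
    (CochainComplex.single₀ _).map ((piAdj.{u} AddCommGrpCat.{u + 1} T).unit.app F) ≫
      (singleMapHomologicalComplex (res.{u} AddCommGrpCat.{u + 1} T) (ComplexShape.up ℕ) 0).inv.app _ ≫
        ((res.{u} AddCommGrpCat.{u + 1} T).mapHomologicalComplex _).map K.ι
  haveI : QuasiIso ι₁ := inferInstance
  let I : InjectiveResolution F :=
    { cocomplex := ((res.{u} AddCommGrpCat.{u + 1} T).mapHomologicalComplex _).obj K.cocomplex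
      injective := fun n => by
        haveI := K.injective n
        exact BigSite16.injective_resEt Scheme.etalePrecoverage (K.cocomplex.X n)
      ι := ι₁
      quasiIso := inferInstance }
  let e : (EtCoh.Rpush f q).obj F ≅ (res.{u} AddCommGrpCat.{u + 1} S).obj (C.homology q) :=
    I.isoRightDerivedObj (EtCoh.push f) q ≪≫
      (homologyFunctor _ _ q).mapIso ((NatIso.mapHomologicalComplex (e1.{u} AddCommGrpCat.{u + 1} f).symm (ComplexShape.up ℕ)).app K.cocomplex) ≪≫
      (C.sc q).mapHomologyIso (res.{u} AddCommGrpCat.{u + 1} S)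
  exact ⟨(pi.{u} AddCommGrpCat.{u + 1} S).mapIso e ≪≫ asIso ((piAdj.{u} AddCommGrpCat.{u + 1} S).counit.app (C.homology q)) ≪≫
    (K.isoRightDerivedObj (bigPush.{u} AddCommGrpCat.{u + 1} f) q).symm⟩

end Groth.Agent.SmallBigBC16
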